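import Mathlib.GroupTheory.PGroup
import Mathlib.GroupTheory.Sylow
import Cfsg.Agent.Lib.Frobenius.Structure

/-!
# Groups partitioned into abelian subgroups of equal order
-/

set_option autoImplicit false

namespace Cfsg.Agent.Lib.ClassSizes

open Subgroup

variable {X : Type*} [Group X] [Finite X]

/-- `comp x` is the member of the partition containing `x ≠ 1`. -/
structure EqualPartition (comp : X → Subgroup X) (c : ℕ) : Prop where
  mem : ∀ x, x ≠ 1 → x ∈ comp x
  eq_of_mem : ∀ x, x ≠ 1 → ∀ y ∈ comp x, y ≠ 1 → comp y = comp x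
  comm : ∀ x, x ≠ 1 → ∀ a ∈ comp x, ∀ b ∈ comp x, a * b = b * a
  card : ∀ x, x ≠ 1 → Nat.card ↥(comp x) = c
  conj : ∀ x, x ≠ 1 → ∀ g a : X, a ∈ comp x → g * a * g⁻¹ ∈ comp (g * x * g⁻¹)
  ne_top : ∀ x, x ≠ 1 → comp x ≠ ⊤

namespace EqualPartition

variable {comp : X → Subgroup X} {c : ℕ} (h : EqualPartition comp c)

include h

theorem orderOf_eq_of_commute {x y : X} (hx : x ≠ 1) (hy : y ≠ 1) (hxy : Commute x y)
    (hne : y ∉ comp x) : orderOf x = orderOf y := by
  suffices key : ∀ x y : X, x ≠ 1 → y ≠ 1 → Commute x y → y ∉ comp x → x ∉ comp y →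
      ¬ orderOf x < orderOf y by
    have hne' : x ∉ comp y := fun hm => hne (by
      rw [h.eq_of_mem y hy x hm hx]; exact h.mem y hy)
    exact le_antisymm (not_lt.mp (key y x hy hx hxy.symm hne' hne))
      (not_lt.mp (key x y hx hy hxy hne hne'))
  intro x y hx hy hxy hne hne' hlt
  have h1 : (x * y) ^ orderOf x = y ^ orderOf x := by
    rw [hxy.mul_pow, pow_orderOf_eq_one, one_mul]
  have h2 : y ^ orderOf x ≠ 1 := fun he =>
    absurd (Nat.le_of_dvd (orderOf_pos x) (orderOf_dvd_of_pow_eq_one he)) (not_le.mpr hlt)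
  have hxy1 : x * y ≠ 1 := fun he => h2 (by rw [← h1, he, one_pow])
  have e1 := h.eq_of_mem _ hxy1 _ (pow_mem (h.mem _ hxy1) (orderOf x)) (by rw [h1]; exact h2)
  have e2 := h.eq_of_mem y hy _ (pow_mem (h.mem y hy) (orderOf x)) h2
  rw [h1, e2] at e1
  apply hne'
  have h3 : x * y ∈ comp y := e1 ▸ h.mem _ hxy1
  simpa using mul_mem h3 (inv_mem (h.mem y hy))

/-- Commuting elements in different members have the same prime order. -/
theorem prime_of_commute {x y : X} (hx : x ≠ 1) (hy : y ≠ 1) (hxy : Commute x y)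
    (hne : y ∉ comp x) : (orderOf x).Prime := by
  have h0 := h.orderOf_eq_of_commute hx hy hxy hne
  have h1 : orderOf x ≠ 1 := fun he => hx (orderOf_eq_one_iff.mp he)
  set r := (orderOf x).minFac with hr
  have hrp := Nat.minFac_prime h1
  have hrd : r ∣ orderOf x := Nat.minFac_dvd _
  by_contra hnp
  have hlt : r < orderOf x := lt_of_le_of_ne (Nat.le_of_dvd (orderOf_pos x) hrd) fun he =>
    hnp (he ▸ hrp)
  have hz : x ^ (orderOf x / r) ≠ 1 := fun he => by
    have := Nat.le_of_dvd (Nat.div_pos hlt.le hrp.pos) (orderOf_dvd_of_pow_eq_one he)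
    exact absurd this (not_le.mpr (Nat.div_lt_self (orderOf_pos x) hrp.one_lt))
  have hne2 : y ∉ comp (x ^ (orderOf x / r)) := by
    rw [h.eq_of_mem x hx _ (pow_mem (h.mem x hx) _) hz]; exact hne
  have h2 := h.orderOf_eq_of_commute hz hy (hxy.pow_left _) hne2
  rw [orderOf_pow_orderOf_div (orderOf_pos x).ne' hrd, ← h0] at h2
  exact hlt.ne h2

theorem dvd_card {r : ℕ} [hr : Fact r.Prime] (hd : r ∣ Nat.card X) : r ∣ c := by
  obtain ⟨x, hx⟩ := exists_prime_orderOf_dvd_card' r hd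
  have hx1 : x ≠ 1 := fun he => hr.out.ne_one (by rw [← hx, he, orderOf_one])
  rw [← h.card x hx1, ← hx]
  exact orderOf_dvd_natCard _ (h.mem x hx1)

/-- A member containing a central element of a Sylow subgroup nearly contains it. -/
theorem sylow_structure {p q : ℕ} [hp : Fact p.Prime] [hq : Fact q.Prime] (hpq : p ≠ q)
    (hqd : q ∣ Nat.card X) (P : Sylow p X) {z : X} (hz1 : z ≠ 1) (hzP : z ∈ (P : Subgroup X))
    (hzc : ∀ u ∈ (P : Subgroup X), Commute z u) (hnle : ¬ (P : Subgroup X) ≤ comp z) :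
    (comp z).relIndex (P : Subgroup X) = p ∧
      ∃ W : Subgroup X, W ≤ comp z ∧ W ≠ ⊥ ∧ (∀ w ∈ W, w ^ q = 1) ∧
        p ∣ Nat.card ↥W - 1 := by
  set C := comp z with hC
  obtain ⟨v, hvP, hvC⟩ := SetLike.not_le_iff_exists.mp hnle
  have hcomm := h.comm z hz1
  let W : Subgroup X :=
    { carrier := {w | w ∈ C ∧ w ^ q = 1}
      one_mem' := ⟨one_mem C, one_pow q⟩
      mul_mem' := fun {a b} ha hb => ⟨mul_mem ha.1 hb.1, by
        rw [(show Commute a b from hcomm a ha.1 b hb.1).mul_pow, ha.2, hb.2, one_mul]⟩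
      inv_mem' := fun {a} ha => ⟨inv_mem ha.1, by rw [inv_pow, ha.2, inv_one]⟩ }
  have hWn : ∀ u ∈ (P : Subgroup X), ∀ w ∈ W, u * w * u⁻¹ ∈ W := by
    intro u hu w hw
    refine ⟨?_, by rw [conj_pow, hw.2]; group⟩
    have h1 := h.conj z hz1 u w hw.1
    rwa [show u * z * u⁻¹ = z by rw [← (hzc u hu).eq, mul_inv_cancel_right]] at h1
  obtain ⟨⟨w₀, hw₀C⟩, hw₀⟩ := exists_prime_orderOf_dvd_card' (G := ↥C) q
    (h.card z hz1 ▸ h.dvd_card hqd)
  rw [Subgroup.orderOf_mk] at hw₀
  have hw₀W : w₀ ∈ W := ⟨hw₀C, by rw [← hw₀, pow_orderOf_eq_one]⟩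
  have hw₀1 : w₀ ≠ 1 := fun he => hq.out.ne_one (by rw [← hw₀, he, orderOf_one])
  haveI : Nontrivial ↥W := ⟨⟨⟨w₀, hw₀W⟩, 1, fun he => hw₀1 (congrArg Subtype.val he)⟩⟩
  -- elements of `P` outside `C` have order `p` and fix nothing in `W`
  have hout : ∀ u ∈ (P : Subgroup X), u ∉ C → orderOf u = p ∧ ∀ w ∈ W, u * w * u⁻¹ = w → w = 1 := by
    intro u hu huC
    have hu1 : u ≠ 1 := fun he => huC (he ▸ one_mem C)
    have hpr := h.prime_of_commute hz1 hu1 (hzc u hu) huC
    have heq := h.orderOf_eq_of_commute hz1 hu1 (hzc u hu) huC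
    obtain ⟨k, hk⟩ := (IsPGroup.iff_orderOf.mp P.isPGroup') ⟨u, hu⟩
    rw [Subgroup.orderOf_mk] at hk
    have hup : orderOf u = p := by
      rw [← heq] at hk ⊢
      exact (Nat.prime_dvd_prime_iff_eq hpr hp.out).mp (hpr.dvd_of_dvd_pow (dvd_of_eq hk))
    refine ⟨hup, fun w hw hfix => by_contra fun hw1 => ?_⟩
    have hne : u ∉ comp w := by rw [h.eq_of_mem z hz1 w hw.1 hw1]; exact huC
    have h2 := h.orderOf_eq_of_commute hw1 hu1 (mul_inv_eq_iff_eq_mul.mp hfix).symm hne
    rw [hup, orderOf_eq_prime hw.2 hw1] at h2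
    exact hpq h2.symm
  let φ : ↥(P : Subgroup X) →* MulAut ↥W :=
    { toFun := fun u =>
        { toFun := fun w => ⟨(u : X) * w * (u : X)⁻¹, hWn u u.2 w w.2⟩
          invFun := fun w => ⟨(u⁻¹ : ↥(P : Subgroup X)) * w * ((u⁻¹ : ↥(P : Subgroup X)) : X)⁻¹,
            hWn _ (u⁻¹).2 w w.2⟩
          left_inv := fun w => Subtype.ext (by simp [mul_assoc])
          right_inv := fun w => Subtype.ext (by simp [mul_assoc])
          map_mul' := fun a b => Subtype.ext (by simp [mul_assoc]) }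
      map_one' := MulEquiv.ext fun w => Subtype.ext (by simp)
      map_mul' := fun a b => MulEquiv.ext fun w => Subtype.ext (by simp [mul_assoc]) }
  have hφ : ∀ u w, ((φ u w : ↥W) : X) = (u : X) * w * (u : X)⁻¹ := fun u w => rfl
  have hker : φ.ker = C.subgroupOf (P : Subgroup X) := by
    ext u
    rw [MonoidHom.mem_ker, mem_subgroupOf]
    constructor
    · intro hu
      by_contra huC
      have := congrArg Subtype.val (MulEquiv.ext_iff.mp hu ⟨w₀, hw₀W⟩)
      exact hw₀1 ((hout u u.2 huC).2 w₀ hw₀W this)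
    · intro hu
      refine MulEquiv.ext fun w => Subtype.ext ?_
      rw [hφ]
      show _ = (w : X)
      rw [hcomm u hu w w.2.1, mul_inv_cancel_right]
  have hfpf : ∀ a : ↥φ.range, a ≠ 1 → ∀ w : ↥W, (a : MulAut ↥W) w = w → w = 1 := by
    rintro ⟨_, u, rfl⟩ ha w hw
    have huC : (u : X) ∉ C := fun hu => ha (Subtype.ext (show φ u = 1 from
      MonoidHom.mem_ker.mp (hker ▸ hu)))
    exact Subtype.ext ((hout u u.2 huC).2 w w.2 (congrArg Subtype.val hw))
  have hexp : ∀ a : ↥φ.range, a ^ p = 1 := by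
    rintro ⟨_, u, rfl⟩
    apply Subtype.ext
    rw [Subgroup.coe_pow, Subgroup.coe_one]
    show φ u ^ p = 1
    by_cases hu : (u : X) ∈ C
    · rw [MonoidHom.mem_ker.mp (hker ▸ hu : u ∈ φ.ker), one_pow]
    · rw [← map_pow, show u ^ p = 1 from Subtype.ext (by
        rw [Subgroup.coe_pow]; exact orderOf_dvd_iff_pow_eq_one.mp (dvd_of_eq (hout u u.2 hu).1)), map_one]
  have hRp : IsPGroup p ↥φ.range := fun a => ⟨1, by rw [pow_one]; exact hexp a⟩
  set a₀ : ↥φ.range := ⟨φ ⟨v, hvP⟩, _, rfl⟩ with ha₀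
  have ha₀1 : a₀ ≠ 1 := fun he => hvC (by
    have : (⟨v, hvP⟩ : ↥(P : Subgroup X)) ∈ φ.ker := MonoidHom.mem_ker.mpr (congrArg Subtype.val he)
    rw [hker] at this
    exact this)
  have hcardR : Nat.card ↥φ.range = p := by
    refine Eq.trans ?_ (orderOf_eq_prime (hexp a₀) ha₀1)
    rw [← Nat.card_zpowers]
    refine (Nat.card_congr ((Equiv.subtypeUnivEquiv fun a => ?_))).symm
    by_cases ha : a = 1
    · rw [ha]; exact one_mem _
    · rw [← Frobenius.zpowers_eq_of_orderOf_prime φ.range.subtype hfpf hRp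
        (orderOf_eq_prime (hexp a) ha) (orderOf_eq_prime (hexp a₀) ha₀1)]
      exact mem_zpowers a
  refine ⟨?_, W, fun w hw => hw.1, (Subgroup.nontrivial_iff_ne_bot W).mp inferInstance,
    fun w hw => hw.2, ?_⟩
  · rw [relIndex, ← hker, index_ker, hcardR]
  · -- fixed point count
    letI : MulAction ↥φ.range ↥W :=
      { smul := fun a w => (a : MulAut ↥W) w
        one_smul := fun w => rfl
        mul_smul := fun a b w => rfl }
    have h1 := hRp.card_modEq_card_fixedPoints ↥W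
    have h2 : Nat.card (MulAction.fixedPoints ↥φ.range ↥W) = 1 := by
      rw [Nat.card_eq_one_iff_exists]
      refine ⟨⟨1, fun a => map_one (a : MulAut ↥W)⟩, fun w => Subtype.ext ?_⟩
      exact hfpf a₀ ha₀1 w.1 (w.2 a₀)
    rw [h2] at h1
    exact (Nat.modEq_iff_dvd' Nat.card_pos).mp h1.symm

theorem dvd_card_sub_one (hnt : Nontrivial X) : c - 1 ∣ Nat.card X - 1 := by
  classical
  haveI := Fintype.ofFinite X
  set S := (Finset.univ : Finset X).erase 1 with hS
  have hScard : S.card = Nat.card X - 1 := by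
    rw [hS, Finset.card_erase_of_mem (Finset.mem_univ _), Finset.card_univ, Nat.card_eq_fintype_card]
  rw [← hScard, Finset.card_eq_sum_card_image comp S]
  refine Finset.dvd_sum fun U hU => ?_
  obtain ⟨x, hx, rfl⟩ := Finset.mem_image.mp hU
  have hx1 : x ≠ 1 := Finset.ne_of_mem_erase hx
  have he : S.filter (fun y => comp y = comp x) =
      ((Finset.univ : Finset X).filter fun y => y ∈ comp x).erase 1 := by
    ext y
    simp only [hS, Finset.mem_filter, Finset.mem_erase, Finset.mem_univ, and_true, true_and]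
    exact ⟨fun ⟨hy, he⟩ => ⟨hy, he ▸ h.mem y hy⟩, fun ⟨hy, hm⟩ => ⟨hy, h.eq_of_mem x hx1 y hm hy⟩⟩
  rw [he, Finset.card_erase_of_mem (Finset.mem_filter.mpr ⟨Finset.mem_univ _, one_mem _⟩),
    ← h.card x hx1, Nat.card_eq_fintype_card, Fintype.card_subtype]

/-- A nontrivially equally partitioned group is a `p`-group. -/
theorem exists_isPGroup [Nontrivial X] : ∃ p : ℕ, p.Prime ∧ IsPGroup p X := by
  obtain ⟨x₁, hx₁⟩ := exists_ne (1 : X)
  set n := Nat.card X with hn
  have hn0 : n ≠ 0 := Nat.card_pos.ne'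
  have hcn : c ∣ n := h.card x₁ hx₁ ▸ card_subgroup_dvd_card _
  have hc0 : c ≠ 0 := h.card x₁ hx₁ ▸ Nat.card_pos.ne'
  have hn1 : n ≠ 1 := Finite.one_lt_card.ne'
  set p := n.minFac with hp'
  have hp := Nat.minFac_prime hn1
  refine ⟨p, hp, ?_⟩
  by_contra hnP
  -- another prime
  obtain ⟨q, hq, hqd, hqp⟩ : ∃ q, q.Prime ∧ q ∣ n ∧ q ≠ p := by
    by_contra hcon
    push Not at hcon
    exact hnP (IsPGroup.of_card
      (Nat.eq_prime_pow_of_unique_prime_dvd hn0 fun {d} hd hd' => hcon d hd hd'))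
  obtain ⟨m, hm⟩ := hcn
  have hclt : c < n := by
    rw [← h.card x₁ hx₁]
    exact lt_of_le_of_ne (Subgroup.card_le_card_group _)
      fun he => h.ne_top x₁ hx₁ (Subgroup.eq_top_of_card_eq _ he)
  have hm1 : 1 < m := by
    by_contra hm1
    have h0 : c * m ≤ c * 1 := Nat.mul_le_mul_left c (not_lt.mp hm1)
    rw [← hm, mul_one] at h0
    omega
  -- every prime exceeds in `n` at most once
  have hstep : ∀ r : ℕ, r.Prime → r ∣ n → n.factorization r ≤ c.factorization r + 1 := by
    intro r hr hrd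
    haveI := Fact.mk hr
    obtain ⟨s, hs, hsd, hsr⟩ : ∃ s, s.Prime ∧ s ∣ n ∧ s ≠ r := by
      by_cases hrp : r = p
      · exact ⟨q, hq, hqd, hrp ▸ hqp⟩
      · exact ⟨p, hp, Nat.minFac_dvd n, Ne.symm hrp⟩
    haveI := Fact.mk hs
    obtain ⟨P⟩ : Nonempty (Sylow r X) := inferInstance
    haveI : Nontrivial ↥(P : Subgroup X) :=
      (Subgroup.nontrivial_iff_ne_bot _).mpr (P.ne_bot_of_dvd_card hrd)
    haveI := P.isPGroup'.center_nontrivial
    obtain ⟨⟨z, hzc⟩, hz1⟩ := exists_ne (1 : Subgroup.center ↥(P : Subgroup X))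
    have hz1' : (z : X) ≠ 1 := fun he => hz1 (Subtype.ext (Subtype.ext he))
    have hzc' : ∀ u ∈ (P : Subgroup X), Commute (z : X) u := fun u hu =>
      (congrArg Subtype.val (Subgroup.mem_center_iff.mp hzc ⟨u, hu⟩)).symm
    have hPcard : Nat.card ↥(P : Subgroup X) = r ^ n.factorization r := P.card_eq_multiplicity
    by_cases hle : (P : Subgroup X) ≤ comp z
    · have h1 := Subgroup.card_dvd_of_le hle
      rw [hPcard, h.card _ hz1', hr.pow_dvd_iff_le_factorization hc0] at h1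
      omega
    · obtain ⟨h1, -⟩ := h.sylow_structure (q := s) (Ne.symm hsr) hsd P hz1' z.2 hzc' hle
      have h2 := ((comp (z : X)).subgroupOf (P : Subgroup X)).card_mul_index
      rw [← Subgroup.relIndex, h1] at h2
      have h3 : Nat.card ↥((comp (z : X)).subgroupOf (P : Subgroup X)) ∣ c := by
        rw [← Subgroup.card_map_of_injective (P : Subgroup X).subtype_injective,
          Subgroup.subgroupOf_map_subtype, ← h.card _ hz1']
        exact Subgroup.card_dvd_of_le inf_le_left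
      have h4 : r ^ n.factorization r ∣ c * r := hPcard ▸ h2 ▸ Nat.mul_dvd_mul_right h3 r
      rw [hr.pow_dvd_iff_le_factorization (mul_ne_zero hc0 hr.ne_zero),
        Nat.factorization_mul hc0 hr.ne_zero, hr.factorization, Finsupp.add_apply,
        Finsupp.single_eq_same] at h4
      omega
  have hm0 : m ≠ 0 := by omega
  have hmfac : ∀ r, r.Prime → m.factorization r ≤ 1 ∧ (r ∣ m → 1 ≤ c.factorization r) := by
    intro r hr
    haveI := Fact.mk hr
    by_cases hrd : r ∣ n
    · have h1 := hstep r hr hrd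
      rw [hm, Nat.factorization_mul hc0 hm0, Finsupp.add_apply] at h1
      exact ⟨by omega, fun _ => hr.factorization_pos_of_dvd hc0 (h.dvd_card hrd)⟩
    · have : ¬ r ∣ m := fun hh => hrd (hm ▸ hh.mul_left c)
      exact ⟨by rw [Nat.factorization_eq_zero_of_not_dvd this]; omega, fun hh => absurd hh this⟩
  have hmc : m ∣ c := by
    rw [← Nat.factorization_le_iff_dvd hm0 hc0]
    intro r
    by_cases hr : r.Prime
    · by_cases hrm : r ∣ m
      · exact (hmfac r hr).1.trans ((hmfac r hr).2 hrm)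
      · rw [Nat.factorization_eq_zero_of_not_dvd hrm]; exact Nat.zero_le _
    · rw [Nat.factorization_eq_zero_of_not_prime m hr]; exact Nat.zero_le _
  have hdiv : c - 1 ∣ m - 1 := by
    have h1 := h.dvd_card_sub_one inferInstance
    rw [← hn, hm] at h1
    have e : c * m - 1 = (c - 1) * m + (m - 1) := by
      obtain ⟨c', rfl⟩ : ∃ c', c = c' + 1 := ⟨c - 1, by omega⟩
      rw [Nat.add_sub_cancel, Nat.add_mul, one_mul]
      omega
    rw [e] at h1
    exact (Nat.dvd_add_right (dvd_mul_right _ _)).mp h1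
  have hmeq : m = c := by
    have h1 := Nat.le_of_dvd (Nat.pos_of_ne_zero hc0) hmc
    have h2 := Nat.le_of_dvd (by omega) hdiv
    omega
  subst m
  -- two primes, both Sylow subgroups of order the square of the prime
  have hone : ∀ r s : ℕ, r.Prime → s.Prime → r ∣ n → s ∣ n → r ≠ s → r ∣ s - 1 := by
    intro r s hr hs hrd hsd hrs
    haveI := Fact.mk hr
    haveI := Fact.mk hs
    have hcr : c.factorization r = 1 := le_antisymm (hmfac r hr).1
      (hr.factorization_pos_of_dvd hc0 (h.dvd_card hrd))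
    have hcs : c.factorization s = 1 := le_antisymm (hmfac s hs).1
      (hs.factorization_pos_of_dvd hc0 (h.dvd_card hsd))
    obtain ⟨P⟩ : Nonempty (Sylow r X) := inferInstance
    haveI : Nontrivial ↥(P : Subgroup X) :=
      (Subgroup.nontrivial_iff_ne_bot _).mpr (P.ne_bot_of_dvd_card hrd)
    haveI := P.isPGroup'.center_nontrivial
    obtain ⟨⟨z, hzc⟩, hz1⟩ := exists_ne (1 : Subgroup.center ↥(P : Subgroup X))
    have hz1' : (z : X) ≠ 1 := fun he => hz1 (Subtype.ext (Subtype.ext he))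
    have hzc' : ∀ u ∈ (P : Subgroup X), Commute (z : X) u := fun u hu =>
      (congrArg Subtype.val (Subgroup.mem_center_iff.mp hzc ⟨u, hu⟩)).symm
    have hnle : ¬ (P : Subgroup X) ≤ comp z := fun hle => by
      have h1 := Subgroup.card_dvd_of_le hle
      rw [P.card_eq_multiplicity, h.card _ hz1', hr.pow_dvd_iff_le_factorization hc0, ← hn, hm,
        Nat.factorization_mul hc0 hc0, Finsupp.add_apply] at h1
      omega
    obtain ⟨-, W, hWC, hW0, hWq, hdvd⟩ := h.sylow_structure (q := s) hrs hsd P hz1' z.2 hzc' hnle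
    obtain ⟨i, hi⟩ := IsPGroup.iff_card.mp
      (show IsPGroup s ↥W from fun w => ⟨1, Subtype.ext (by
        rw [pow_one, Subgroup.coe_pow, Subgroup.coe_one]; exact hWq w w.2)⟩)
    have hi1 : i ≤ 1 := by
      have h1 := Subgroup.card_dvd_of_le hWC
      rw [hi, h.card _ hz1', hs.pow_dvd_iff_le_factorization hc0] at h1
      omega
    have hi0 : i ≠ 0 := fun h0 => hW0 (Subgroup.eq_bot_of_card_eq _ (by rw [hi, h0, pow_zero]))
    rw [hi, show i = 1 by omega, pow_one] at hdvd
    exact hdvd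
  have h1 := Nat.le_of_dvd (by have := hq.two_le; omega)
    (hone p q hp hq (Nat.minFac_dvd n) hqd (Ne.symm hqp))
  have h2 := Nat.le_of_dvd (by have := hp.two_le; omega)
    (hone q p hq hp hqd (Nat.minFac_dvd n) hqp)
  omega

end EqualPartition

end Cfsg.Agent.Lib.ClassSizes
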