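import Cfsg.Agent.Lib.ClassSizes.Partition
import Mathlib.GroupTheory.GroupAction.ConjAct
import Mathlib.GroupTheory.QuotientGroup.Basic
import Mathlib.Data.Nat.ChineseRemainder

/-!
# Two class sizes (Itô)
-/

set_option autoImplicit false

namespace Cfsg.Agent.Lib.ClassSizes

open Subgroup

variable {G : Type*} [Group G]

theorem centralizer_le_of_mem_zpowers {x y : G} (h : y ∈ zpowers x) :
    centralizer ({x} : Set G) ≤ centralizer ({y} : Set G) := fun g hg => by
  obtain ⟨i, rfl⟩ := mem_zpowers_iff.mp h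
  rw [mem_centralizer_singleton_iff] at hg ⊢
  exact ((show Commute g x from hg).zpow_right i).eq

theorem mem_zpowers_mul_of_coprime {x y : G} (hxy : Commute x y) (hx : 0 < orderOf x)
    (hy : 0 < orderOf y) (hco : (orderOf x).Coprime (orderOf y)) : x ∈ zpowers (x * y) := by
  obtain ⟨k, hk1, hk2⟩ := Nat.chineseRemainder hco 1 0
  refine mem_zpowers_iff.mpr ⟨(k : ℤ), ?_⟩
  rw [zpow_natCast, hxy.mul_pow, pow_eq_pow_iff_modEq.mpr hk1, pow_eq_pow_iff_modEq.mpr hk2,
    pow_one, pow_zero, mul_one]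

theorem center_le_centralizer (x : G) : Subgroup.center G ≤ centralizer ({x} : Set G) :=
  fun g hg => mem_centralizer_singleton_iff.mpr (Subgroup.mem_center_iff.mp hg x).symm

theorem mem_center_iff_centralizer {x : G} :
    x ∈ Subgroup.center G ↔ centralizer ({x} : Set G) = ⊤ := by
  rw [Subgroup.mem_center_iff, eq_top_iff]
  exact ⟨fun h g _ => mem_centralizer_singleton_iff.mpr (h g),
    fun h g => mem_centralizer_singleton_iff.mp (h (Subgroup.mem_top g))⟩

variable [Finite G]

/-- A subgroup whose elements of prime power order lie in `K` lies in `K`. -/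
theorem le_of_primePow_mem {H K : Subgroup G}
    (h : ∀ x ∈ H, (∃ r k : ℕ, r.Prime ∧ orderOf x = r ^ k) → x ∈ K) : H ≤ K := by
  rw [← relIndex_eq_one]
  by_contra hne
  have hp := Nat.minFac_prime hne
  haveI := Fact.mk hp
  obtain ⟨R⟩ : Nonempty (Sylow (K.relIndex H).minFac ↥H) := inferInstance
  have hRK : (R : Subgroup ↥H) ≤ K.subgroupOf H := fun x hx => by
    obtain ⟨k, hk⟩ := (IsPGroup.iff_orderOf.mp R.isPGroup') ⟨x, hx⟩
    rw [Subgroup.orderOf_mk] at hk
    exact h _ x.2 ⟨_, k, hp, (Subgroup.orderOf_coe x).trans hk⟩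
  exact R.not_dvd_index ((Nat.minFac_dvd _).trans (Subgroup.index_dvd_of_le hRK))

/-- The classes of noncentral elements all have size `n`. -/
def TwoSizes (G : Type*) [Group G] (n : ℕ) : Prop :=
  ∀ x : G, x ∉ Subgroup.center G → (centralizer ({x} : Set G)).index = n

namespace TwoSizes

variable {n : ℕ} (h : TwoSizes G n)

include h

theorem centralizer_eq_of_le {x y : G} (hx : x ∉ Subgroup.center G) (hy : y ∉ Subgroup.center G)
    (hle : centralizer ({x} : Set G) ≤ centralizer ({y} : Set G)) :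
    centralizer ({x} : Set G) = centralizer ({y} : Set G) := by
  have h1 := relIndex_mul_index hle
  rw [h x hx, h y hy] at h1
  have hn : 0 < n := h y hy ▸ Nat.pos_of_ne_zero index_ne_zero_of_finite
  have h2 : (centralizer ({x} : Set G)).relIndex (centralizer ({y} : Set G)) = 1 :=
    Nat.eq_of_mul_eq_mul_right hn (by rw [h1, one_mul])
  exact le_antisymm hle (relIndex_eq_one.mp h2)

theorem card_centralizer_eq {x y : G} (hx : x ∉ Subgroup.center G) (hy : y ∉ Subgroup.center G) :
    Nat.card ↥(centralizer ({x} : Set G)) = Nat.card ↥(centralizer ({y} : Set G)) := by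
  have h1 := (centralizer ({x} : Set G)).card_mul_index
  have h2 := (centralizer ({y} : Set G)).card_mul_index
  rw [h x hx] at h1
  rw [h y hy] at h2
  exact Nat.eq_of_mul_eq_mul_right (h y hy ▸ Nat.pos_of_ne_zero index_ne_zero_of_finite)
    (h1.trans h2.symm)

/-- In the centraliser of a noncentral `p`-element, coprime elements are central. -/
theorem commute_of_coprime {x : G} (hx : x ∉ Subgroup.center G) {p : ℕ} [Fact p.Prime]
    (hxp : ∃ k : ℕ, orderOf x = p ^ k) {y : G} (hy : y ∈ centralizer ({x} : Set G))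
    (hyp : ¬ p ∣ orderOf y) {g : G} (hg : g ∈ centralizer ({x} : Set G)) : Commute g y := by
  obtain ⟨k, hk⟩ := hxp
  have hxy : Commute x y := (mem_centralizer_singleton_iff.mp hy).symm
  have hco : (orderOf x).Coprime (orderOf y) := by
    rw [hk]; exact (((Fact.out : p.Prime).coprime_iff_not_dvd).mpr hyp).pow_left k
  have hle1 := centralizer_le_of_mem_zpowers (mem_zpowers_mul_of_coprime hxy (orderOf_pos x) (orderOf_pos y) hco)
  have hle2 := centralizer_le_of_mem_zpowers
    (mem_zpowers_mul_of_coprime hxy.symm (orderOf_pos y) (orderOf_pos x) hco.symm)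
  rw [← hxy.eq] at hle2
  have hne : x * y ∉ Subgroup.center G := fun hc => hx (by
    rw [mem_center_iff_centralizer] at hc ⊢
    exact top_le_iff.mp (hc ▸ hle1))
  rw [h.centralizer_eq_of_le hne hx hle1] at hle2
  exact mem_centralizer_singleton_iff.mp (hle2 hg)

/-- A centraliser of a noncentral element is the centraliser of a noncentral element of prime-power
order. -/
theorem exists_primePow {w : G} (hw : w ∉ Subgroup.center G) :
    ∃ x : G, x ∉ Subgroup.center G ∧ (∃ r k : ℕ, r.Prime ∧ orderOf x = r ^ k) ∧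
      centralizer ({x} : Set G) = centralizer ({w} : Set G) := by
  obtain ⟨x, hx, hxr, hxc⟩ : ∃ x ∈ zpowers w, (∃ r k : ℕ, r.Prime ∧ orderOf x = r ^ k) ∧
      x ∉ Subgroup.center G := by
    by_contra hcon
    push Not at hcon
    exact hw (le_of_primePow_mem (fun x hx hr => hcon x hx hr) (mem_zpowers w))
  exact ⟨x, hxc, hxr, (h.centralizer_eq_of_le hw hxc (centralizer_le_of_mem_zpowers hx)).symm⟩

/-- If some centraliser is not abelian, all elements prime to one `p` are central. -/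
theorem primePow_central_of_nonabelian {w : G} (hw : w ∉ Subgroup.center G)
    (hna : ∃ a ∈ centralizer ({w} : Set G), ∃ b ∈ centralizer ({w} : Set G), a * b ≠ b * a) :
    ∃ p : ℕ, p.Prime ∧ ∀ y : G, (∃ r k : ℕ, r.Prime ∧ r ≠ p ∧ orderOf y = r ^ k) →
      y ∈ Subgroup.center G := by
  obtain ⟨x, hx, ⟨p, kx, hp, hxp⟩, hxw⟩ := h.exists_primePow hw
  rw [← hxw] at hna
  haveI := Fact.mk hp
  set C := centralizer ({x} : Set G) with hC
  -- elements of `C` of order prime to `p` are central in `G`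
  have hcentral : ∀ y ∈ C, (∃ r k : ℕ, r.Prime ∧ r ≠ p ∧ orderOf y = r ^ k) →
      y ∈ Subgroup.center G := by
    intro y hy ⟨r, k, hr, hrp, hk⟩
    by_contra hyc
    haveI := Fact.mk hr
    have hyp : ¬ p ∣ orderOf y := by
      rw [hk]
      exact fun hd => hrp ((Nat.prime_dvd_prime_iff_eq hp hr).mp (hp.dvd_of_dvd_pow hd)).symm
    have hle : C ≤ centralizer ({y} : Set G) := fun g hg =>
      mem_centralizer_singleton_iff.mpr (h.commute_of_coprime hx ⟨kx, hxp⟩ hy hyp hg).eq
    have heq := h.centralizer_eq_of_le hx hyc hle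
    obtain ⟨a, ha, b, hb, hab⟩ := hna
    have hall : C ≤ centralizer (C : Set G) := le_of_primePow_mem fun g hg ⟨s, j, hs, hj⟩ => by
      rw [mem_centralizer_iff]
      intro g' hg'
      by_cases hsp : s = p
      · refine (h.commute_of_coprime hyc ⟨k, hk⟩ (heq ▸ hg) ?_ (heq ▸ hg')).eq
        rw [hj, hsp]
        exact fun hd => hrp ((Nat.prime_dvd_prime_iff_eq hr hp).mp (hr.dvd_of_dvd_pow hd))
      · refine (h.commute_of_coprime hx ⟨kx, hxp⟩ hg ?_ hg').eq
        rw [hj]
        exact fun hd => hsp ((Nat.prime_dvd_prime_iff_eq hp hs).mp (hp.dvd_of_dvd_pow hd)).symm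
    exact hab (mem_centralizer_iff.mp (hall ha) b hb).symm
  refine ⟨p, hp, fun y ⟨r, k, hr, hrp, hk⟩ => ?_⟩
  by_contra hyc
  haveI := Fact.mk hr
  set Z := Subgroup.center G with hZ
  -- `r` does not divide `[C : Z]`
  have h1 : ¬ r ∣ Z.relIndex C := by
    obtain ⟨R⟩ : Nonempty (Sylow r ↥C) := inferInstance
    have hRZ : (R : Subgroup ↥C) ≤ Z.subgroupOf C := fun g hg => by
      obtain ⟨j, hj⟩ := (IsPGroup.iff_orderOf.mp R.isPGroup') ⟨g, hg⟩
      rw [Subgroup.orderOf_mk] at hj
      exact hcentral g g.2 ⟨r, j, hr, hrp, by rw [Subgroup.orderOf_coe, hj]⟩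
    exact fun hd => R.not_dvd_index (hd.trans (Subgroup.index_dvd_of_le hRZ))
  have h2 : Z.relIndex C = Z.relIndex (centralizer ({y} : Set G)) := by
    have e1 := (Z.subgroupOf C).card_mul_index
    have e2 := (Z.subgroupOf (centralizer ({y} : Set G))).card_mul_index
    rw [Nat.card_congr (subgroupOfEquivOfLe (center_le_centralizer x)).toEquiv] at e1
    rw [Nat.card_congr (subgroupOfEquivOfLe (center_le_centralizer y)).toEquiv,
      h.card_centralizer_eq hyc hx] at e2
    exact Nat.eq_of_mul_eq_mul_left Nat.card_pos (e1.trans e2.symm)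
  -- but it divides `[C(y) : Z]`
  apply h1
  rw [h2]
  have hyC : y ∈ centralizer ({y} : Set G) := mem_centralizer_singleton_iff.mpr rfl
  set π := QuotientGroup.mk' (Z.subgroupOf (centralizer ({y} : Set G))) with hπ
  have hne : π ⟨y, hyC⟩ ≠ 1 := fun he => hyc (by
    have := (QuotientGroup.eq_one_iff _).mp he
    exact this)
  have hd : orderOf (π ⟨y, hyC⟩) ∣ r ^ k :=
    (orderOf_map_dvd π _).trans (by rw [Subgroup.orderOf_mk, hk])
  obtain ⟨i, -, hi⟩ := (Nat.dvd_prime_pow hr).mp hd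
  have hi0 : i ≠ 0 := fun h0 => hne (orderOf_eq_one_iff.mp (by rw [hi, h0, pow_zero]))
  rw [relIndex, index_eq_card]
  exact ((dvd_pow_self r hi0).trans hi.symm.dvd).trans (orderOf_dvd_natCard _)

/-- **Itô**: modulo the centre a group with two class sizes is a `p`-group. -/
theorem exists_isPGroup_quotient (hnc : Subgroup.center G ≠ ⊤) :
    ∃ p : ℕ, p.Prime ∧ IsPGroup p (G ⧸ Subgroup.center G) := by
  by_cases hna : ∃ w, w ∉ Subgroup.center G ∧
      ∃ a ∈ centralizer ({w} : Set G), ∃ b ∈ centralizer ({w} : Set G), a * b ≠ b * a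
  · obtain ⟨w, hw, hab⟩ := hna
    obtain ⟨p, hp, hc⟩ := h.primePow_central_of_nonabelian hw hab
    haveI := Fact.mk hp
    refine ⟨p, hp, ?_⟩
    obtain ⟨P⟩ : Nonempty (Sylow p G) := inferInstance
    have htop : (P : Subgroup G) ⊔ Subgroup.center G = ⊤ := by
      by_contra hne
      set K := (P : Subgroup G) ⊔ Subgroup.center G with hK
      have h1 : K.index ≠ 1 := fun he => hne (Subgroup.index_eq_one.mp he)
      have hr := Nat.minFac_prime h1
      haveI := Fact.mk hr
      have hrp : K.index.minFac ≠ p := fun he => P.not_dvd_index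
        (((dvd_of_eq he.symm).trans (Nat.minFac_dvd _)).trans (Subgroup.index_dvd_of_le le_sup_left))
      obtain ⟨R⟩ : Nonempty (Sylow K.index.minFac G) := inferInstance
      have hRK : (R : Subgroup G) ≤ K := fun g hg => by
        obtain ⟨j, hj⟩ := (IsPGroup.iff_orderOf.mp R.isPGroup') ⟨g, hg⟩
        rw [Subgroup.orderOf_mk] at hj
        exact Subgroup.mem_sup_right (hc g ⟨_, j, hr, hrp, hj⟩)
      exact R.not_dvd_index ((Nat.minFac_dvd _).trans (Subgroup.index_dvd_of_le hRK))
    have := P.isPGroup'.map (QuotientGroup.mk' (Subgroup.center G))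
    have e : (P : Subgroup G).map (QuotientGroup.mk' (Subgroup.center G)) = ⊤ := by
      have h1 := Subgroup.map_sup (P : Subgroup G) (Subgroup.center G)
        (QuotientGroup.mk' (Subgroup.center G))
      rw [htop, Subgroup.map_top_of_surjective _ (QuotientGroup.mk'_surjective _),
        QuotientGroup.map_mk'_self, sup_bot_eq] at h1
      exact h1.symm
    rw [e] at this
    exact this.of_equiv Subgroup.topEquiv
  push Not at hna
  set π := QuotientGroup.mk' (Subgroup.center G) with hπ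
  haveI : Nontrivial (G ⧸ Subgroup.center G) :=
    QuotientGroup.nontrivial_iff.mpr hnc
  have hout : ∀ g : G, centralizer ({(π g).out} : Set G) = centralizer ({g} : Set G) := by
    intro g
    have h1 : g⁻¹ * (π g).out ∈ Subgroup.center G := QuotientGroup.eq.mp (QuotientGroup.out_eq' (π g)).symm
    set z := g⁻¹ * (π g).out with hz
    have e : (π g).out = g * z := (mul_inv_cancel_left g _).symm
    rw [e]
    ext c
    have hcz : Commute c z := Subgroup.mem_center_iff.mp h1 c
    rw [mem_centralizer_singleton_iff, mem_centralizer_singleton_iff]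
    constructor
    · intro hc
      have h2 : (c * g) * z = (g * c) * z :=
        calc (c * g) * z = (g * z) * c := by rw [mul_assoc c g z, hc]
          _ = (g * c) * z := by rw [mul_assoc, ← hcz.eq, ← mul_assoc]
      exact mul_right_cancel h2
    · intro hc
      exact ((show Commute c g from hc).mul_right hcz).eq
  have hrep : ∀ x : G ⧸ Subgroup.center G, x ≠ 1 → ∃ g, g ∉ Subgroup.center G ∧ π g = x := by
    intro x hx
    obtain ⟨g, rfl⟩ := QuotientGroup.mk'_surjective _ x
    exact ⟨g, fun hg => hx ((QuotientGroup.eq_one_iff g).mpr hg), rfl⟩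
  have hmem1 : ∀ g c : G, c ∈ centralizer ({g} : Set G) → π c ∈ (centralizer ({(π g).out} : Set G)).map π :=
    fun g c hc => mem_map_of_mem π (by rw [hout]; exact hc)
  obtain ⟨g₀, hg₀⟩ : ∃ g, g ∉ Subgroup.center G := by
    by_contra hc
    push Not at hc
    exact hnc (eq_top_iff.mpr fun g _ => hc g)
  have hcard : ∀ g, g ∉ Subgroup.center G →
      Nat.card ↥((centralizer ({g} : Set G)).map π) * Nat.card ↥(Subgroup.center G) =
        Nat.card ↥(centralizer ({g} : Set G)) := by
    intro g _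
    have h1 := (((Subgroup.center G).subgroupOf (centralizer ({g} : Set G)))).card_mul_index
    rw [Nat.card_congr (subgroupOfEquivOfLe (center_le_centralizer g)).toEquiv] at h1
    have h2 : Nat.card ↥((centralizer ({g} : Set G)).map π) =
        (Subgroup.center G).relIndex (centralizer ({g} : Set G)) := by
      rw [← Subgroup.relIndex_bot_left, ← Subgroup.relIndex_comap, MonoidHom.comap_bot,
        hπ, QuotientGroup.ker_mk']
    rw [h2, mul_comm]
    exact h1
  refine EqualPartition.exists_isPGroup (comp := fun x => (centralizer ({x.out} : Set G)).map π)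
    (c := Nat.card ↥((centralizer ({g₀} : Set G)).map π)) ⟨?_, ?_, ?_, ?_, ?_, ?_⟩
  · intro x hx
    obtain ⟨g, -, rfl⟩ := hrep x hx
    exact hmem1 g g (mem_centralizer_singleton_iff.mpr rfl)
  · intro x hx y hy hy1
    obtain ⟨g, hg, rfl⟩ := hrep x hx
    rw [hout] at hy
    obtain ⟨c, hc, rfl⟩ := hy
    have hcc : c ∉ Subgroup.center G := fun hcc => hy1 ((QuotientGroup.eq_one_iff c).mpr hcc)
    simp only [hout]
    rw [h.centralizer_eq_of_le hg hcc fun a ha =>
      mem_centralizer_singleton_iff.mpr (hna g hg a ha c hc)]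
  · intro x hx a ha b hb
    obtain ⟨g, hg, rfl⟩ := hrep x hx
    simp only [hout] at ha hb
    obtain ⟨a, ha', rfl⟩ := ha
    obtain ⟨b, hb', rfl⟩ := hb
    rw [← map_mul, ← map_mul, hna g hg a ha' b hb']
  · intro x hx
    obtain ⟨g, hg, rfl⟩ := hrep x hx
    simp only [hout]
    refine Nat.eq_of_mul_eq_mul_right (Nat.card_pos (α := ↥(Subgroup.center G))) ?_
    rw [hcard g hg, hcard g₀ hg₀, h.card_centralizer_eq hg hg₀]
  · intro x hx t a ha
    obtain ⟨g, hg, rfl⟩ := hrep x hx
    obtain ⟨t, rfl⟩ := QuotientGroup.mk'_surjective _ t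
    simp only [hout] at ha
    obtain ⟨a, ha', rfl⟩ := ha
    show π t * π a * (π t)⁻¹ ∈ (centralizer ({(π t * π g * (π t)⁻¹).out} : Set G)).map π
    rw [show π t * π g * (π t)⁻¹ = π (t * g * t⁻¹) by rw [map_mul, map_mul, map_inv],
      ← map_inv, ← map_mul, ← map_mul]
    refine hmem1 _ _ (mem_centralizer_singleton_iff.mpr ?_)
    rw [SetLike.mem_coe, mem_centralizer_singleton_iff] at ha'
    calc t * a * t⁻¹ * (t * g * t⁻¹) = t * (a * g) * t⁻¹ := by group
      _ = t * g * t⁻¹ * (t * a * t⁻¹) := by rw [ha']; group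
  · intro x hx
    obtain ⟨g, hg, rfl⟩ := hrep x hx
    simp only [hout]
    intro htop
    apply hg
    rw [mem_center_iff_centralizer]
    have h1 := congrArg (Subgroup.comap π) htop
    rw [comap_map_eq, comap_top, hπ, QuotientGroup.ker_mk',
      sup_of_le_left (center_le_centralizer g)] at h1
    exact h1

/-- The exponent-`p` quotient. -/
theorem pow_mem_of_selfCentralizing {p : ℕ} [Fact p.Prime] {P : Subgroup G} (hP : IsPGroup p ↥P)
    {A : Subgroup ↥P} [A.Normal] (hAc : IsMulCommutative ↥A)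
    (hCA : centralizer (A : Set ↥P) = A) (y : ↥P) : y ^ p ∈ A := by
  by_contra hyp
  have hy : y ∉ A := fun hm => hyp (pow_mem hm p)
  have hcommA : ∀ a ∈ A, ∀ b ∈ A, a * b = b * a := fun a ha b hb =>
    congrArg Subtype.val (hAc.is_comm.comm ⟨a, ha⟩ ⟨b, hb⟩)
  -- the commutators with `y`
  let f : ↥A →* ↥P := MonoidHom.mk' (fun a => y * a * y⁻¹ * (a : ↥P)⁻¹) fun a b => by
    have hna : ∀ a : ↥A, y * a * y⁻¹ ∈ A := fun a => (inferInstance : A.Normal).conj_mem _ a.2 y
    calc y * ((a * b : ↥A) : ↥P) * y⁻¹ * ((a * b : ↥A) : ↥P)⁻¹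
        = (y * a * y⁻¹) * ((y * b * y⁻¹ * (b : ↥P)⁻¹) * (a : ↥P)⁻¹) := by
          rw [Subgroup.coe_mul]; group
      _ = (y * a * y⁻¹) * ((a : ↥P)⁻¹ * (y * b * y⁻¹ * (b : ↥P)⁻¹)) := by
          rw [hcommA _ (mul_mem (hna b) (inv_mem b.2)) _ (inv_mem a.2)]
      _ = _ := by group
  have hfA : f.range ≤ A := by
    rintro _ ⟨a, rfl⟩
    exact mul_mem ((inferInstance : A.Normal).conj_mem _ a.2 y) (inv_mem a.2)
  have hne : Nontrivial ↥f.range := by
    rw [Subgroup.nontrivial_iff_ne_bot, Ne, MonoidHom.range_eq_bot_iff]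
    intro hf
    refine hy (hCA.le (mem_centralizer_iff.mpr fun a ha => ?_))
    have h1 : y * a * y⁻¹ * a⁻¹ = 1 := DFunLike.congr_fun hf ⟨a, ha⟩
    rw [mul_inv_eq_one, mul_inv_eq_iff_eq_mul] at h1
    exact h1.symm
  have hyinv : ∀ z ∈ f.range, ∀ w ∈ zpowers y, w * z * w⁻¹ ∈ f.range := by
    intro z hz w hw
    obtain ⟨a, rfl⟩ := hz
    obtain ⟨i, rfl⟩ := mem_zpowers_iff.mp hw
    refine ⟨⟨y ^ i * a * (y ^ i)⁻¹, (inferInstance : A.Normal).conj_mem _ a.2 _⟩, ?_⟩
    show y * (y ^ i * (a : ↥P) * (y ^ i)⁻¹) * y⁻¹ * (y ^ i * (a : ↥P) * (y ^ i)⁻¹)⁻¹ =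
      y ^ i * (y * a * y⁻¹ * (a : ↥P)⁻¹) * (y ^ i)⁻¹
    group
  letI : MulAction ↥(zpowers y) ↥f.range :=
    { smul := fun w z => ⟨(w : ↥P) * z * (w : ↥P)⁻¹, hyinv z z.2 w w.2⟩
      one_smul := fun z => Subtype.ext (show (1 : ↥P) * z * 1⁻¹ = z by group)
      mul_smul := fun a b z => Subtype.ext (show ((a * b : ↥(zpowers y)) : ↥P) * z *
        ((a * b : ↥(zpowers y)) : ↥P)⁻¹ = a * (b * z * (b : ↥P)⁻¹) * (a : ↥P)⁻¹ by
          rw [Subgroup.coe_mul]; group) }
  have hpz : IsPGroup p ↥(zpowers y) := hP.to_subgroup _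
  obtain ⟨i, hi⟩ := IsPGroup.iff_card.mp (hP.to_subgroup f.range)
  have hi0 : i ≠ 0 := fun h0 => by
    rw [h0, pow_zero] at hi
    exact (Finite.one_lt_card (α := ↥f.range)).ne' hi
  obtain ⟨z, hz, hz1⟩ := hpz.exists_fixed_point_of_prime_dvd_card_of_fixed_point ↥f.range
    (hi ▸ dvd_pow_self p hi0) (a := 1) (fun w => Subtype.ext (by
      show (w : ↥P) * 1 * (w : ↥P)⁻¹ = 1
      group))
  -- make it of order `p`
  obtain ⟨j, -, hj⟩ := (Nat.dvd_prime_pow (Fact.out : p.Prime)).mp
    (show orderOf z ∣ p ^ i from hi ▸ orderOf_dvd_natCard z)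
  have hj0 : j ≠ 0 := fun h0 => hz1 (orderOf_eq_one_iff.mp (by rw [hj, h0, pow_zero])).symm
  set z₀ := z ^ (orderOf z / p) with hz₀
  have hz₀o : orderOf z₀ = p := orderOf_pow_orderOf_div (orderOf_pos z).ne' (hj ▸ dvd_pow_self p hj0)
  have hyz : y * (z : ↥P) = (z : ↥P) * y :=
    mul_inv_eq_iff_eq_mul.mp (congrArg Subtype.val (hz ⟨y, mem_zpowers y⟩))
  obtain ⟨a, ha⟩ := z₀.2
  have hyz₀ : Commute y (z₀ : ↥P) := by
    rw [hz₀, Subgroup.coe_pow]; exact (show Commute y (z : ↥P) from hyz).pow_right _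
  have hz₀1 : (z₀ : ↥P) ≠ 1 := fun he => (Fact.out : p.Prime).ne_one (by
    rw [← hz₀o, OneMemClass.coe_eq_one.mp he, orderOf_one])
  have hconj : y * (a : ↥P) * y⁻¹ = (z₀ : ↥P) * a := by
    rw [← ha]; show _ = y * a * y⁻¹ * (a : ↥P)⁻¹ * a
    group
  have hiter : ∀ m : ℕ, y ^ m * (a : ↥P) * (y ^ m)⁻¹ = (z₀ : ↥P) ^ m * a := by
    intro m
    induction m with
    | zero => simp
    | succ m ih =>
      calc y ^ (m + 1) * (a : ↥P) * (y ^ (m + 1))⁻¹ = y * (y ^ m * a * (y ^ m)⁻¹) * y⁻¹ := by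
            rw [pow_succ']; group
        _ = (y * (z₀ : ↥P) ^ m * y⁻¹) * (y * a * y⁻¹) := by rw [ih]; group
        _ = (z₀ : ↥P) ^ (m + 1) * a := by
            rw [(hyz₀.pow_right m).eq, mul_inv_cancel_right, hconj, pow_succ, mul_assoc]
  have hfix : y ^ p * (a : ↥P) * (y ^ p)⁻¹ = a := by
    rw [hiter, ← Subgroup.coe_pow, ← hz₀o, pow_orderOf_eq_one, Subgroup.coe_one, one_mul]
  have hyc : ((y ^ p : ↥P) : G) ∉ Subgroup.center G := fun hc => hyp (hCA.le
    (mem_centralizer_iff.mpr fun b _ => Subtype.ext (Subgroup.mem_center_iff.mp hc (b : ↥P))))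
  have hy' : ((y : ↥P) : G) ∉ Subgroup.center G := fun hc => hyc (by
    rw [Subgroup.coe_pow]; exact pow_mem hc p)
  have heq := h.centralizer_eq_of_le hy' hyc
    (centralizer_le_of_mem_zpowers (by rw [Subgroup.coe_pow]; exact pow_mem (mem_zpowers _) p))
  have hac : ((a : ↥P) : G) ∈ centralizer ({((y ^ p : ↥P) : G)} : Set G) :=
    mem_centralizer_singleton_iff.mpr
      (congrArg Subtype.val (mul_inv_eq_iff_eq_mul.mp hfix)).symm
  rw [← heq, mem_centralizer_singleton_iff] at hac
  apply hz₀1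
  have h1 : y * (a : ↥P) * y⁻¹ = a := mul_inv_eq_iff_eq_mul.mpr (Subtype.ext hac.symm)
  rw [hconj] at h1
  exact mul_eq_right.mp h1

end TwoSizes

end Cfsg.Agent.Lib.ClassSizes
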